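import Mathlib.RingTheory.AdjoinRoot
import Mathlib.RingTheory.AlgebraTower
import Mathlib.RingTheory.Polynomial.Vieta
import Mathlib.RingTheory.MvPolynomial.Symmetric.Defs
import Mathlib.Algebra.Polynomial.BigOperators
import Mathlib.LinearAlgebra.FreeModule.Basic

/-!
# The universal splitting algebra of a monic polynomial is free of rank `r!`
-/

open Polynomial

universe u

namespace Groth.Agent.SymPolyLib

variable {A : Type u} [CommRing A]

/-- `∏ (X - U_i)` -/
noncomputable def genPoly (r : ℕ) (A : Type u) [CommRing A] :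
    Polynomial (MvPolynomial (Fin r) A) :=
  ∏ i : Fin r, (X - C (MvPolynomial.X i))

/-- the ideal forcing `∏ (X - U_i) = f` -/
noncomputable def splitIdeal (r : ℕ) (f : A[X]) : Ideal (MvPolynomial (Fin r) A) :=
  Ideal.span (Set.range fun k : Fin r =>
    (genPoly r A).coeff k - MvPolynomial.C (f.coeff k))

/-- the splitting algebra -/
abbrev SplitAlg (r : ℕ) (f : A[X]) : Type u := MvPolynomial (Fin r) A ⧸ splitIdeal r f

lemma map_genPoly {r : ℕ} {B : Type*} [CommRing B] (φ : MvPolynomial (Fin r) A →+* B) :
    (genPoly r A).map φ = ∏ i : Fin r, (X - C (φ (MvPolynomial.X i))) := by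
  simp [genPoly, Polynomial.map_prod]

lemma coeff_genPoly_self (r : ℕ) : (genPoly r A).coeff r = 1 := by
  have hm : (Finset.univ.val.map fun i : Fin r =>
      (MvPolynomial.X i : MvPolynomial (Fin r) A)).card = r := by simp
  have h := Multiset.prod_X_sub_C_coeff
    (Finset.univ.val.map fun i : Fin r => (MvPolynomial.X i : MvPolynomial (Fin r) A))
    (k := r) (le_of_eq hm.symm)
  rw [Multiset.map_map, hm, Nat.sub_self] at h
  simpa [genPoly, Finset.prod, Multiset.esymm, Function.comp_def] using h

lemma natDegree_genPoly_le (r : ℕ) : (genPoly r A).natDegree ≤ r := by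
  refine le_trans (natDegree_prod_le _ _) (le_trans (Finset.sum_le_sum
    (g := fun _ => 1) fun i _ => ?_) (by simp))
  simpa using natDegree_X_sub_C_le (MvPolynomial.X i : MvPolynomial (Fin r) A)

/-- monic of degree at most `r` with `r`-th coefficient one -/
structure Deg (r : ℕ) (f : A[X]) : Prop where
  le : f.natDegree ≤ r
  one : f.coeff r = 1

lemma coeff_eq_of_deg {r : ℕ} {f g : A[X]} (hf : Deg r f) (hg : Deg r g)
    (h : ∀ k < r, f.coeff k = g.coeff k) : f = g := by
  ext k
  rcases lt_trichotomy k r with hk | hk | hk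
  · exact h k hk
  · subst hk; rw [hf.one, hg.one]
  · rw [coeff_eq_zero_of_natDegree_lt (lt_of_le_of_lt hf.le hk),
      coeff_eq_zero_of_natDegree_lt (lt_of_le_of_lt hg.le hk)]

lemma Deg.map {r : ℕ} {f : A[X]} (hf : Deg r f) {B : Type*} [CommRing B] (φ : A →+* B) :
    Deg r (f.map φ) :=
  ⟨le_trans natDegree_map_le hf.le, by rw [coeff_map, hf.one, map_one]⟩

/-- a ring map kills the split ideal iff it carries `∏ (X - U_i)` to `f` -/
lemma le_ker_iff {r : ℕ} {f : A[X]} (hf : Deg r f) {B : Type*} [CommRing B]
    (φ : MvPolynomial (Fin r) A →+* B) :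
    splitIdeal r f ≤ RingHom.ker φ ↔
      (∏ i : Fin r, (X - C (φ (MvPolynomial.X i)))) = f.map (φ.comp MvPolynomial.C) := by
  constructor
  · intro h
    rw [← map_genPoly]
    refine coeff_eq_of_deg ((Deg.mk (natDegree_genPoly_le r) (coeff_genPoly_self r)).map φ)
      (hf.map _) fun k hk => ?_
    have := h (Ideal.subset_span ⟨⟨k, hk⟩, rfl⟩)
    rw [RingHom.mem_ker, map_sub, sub_eq_zero] at this
    simpa [coeff_map] using this
  · intro h
    rw [splitIdeal, Ideal.span_le]
    rintro _ ⟨k, rfl⟩
    rw [← map_genPoly] at h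
    have := congrArg (fun p => p.coeff (k : ℕ)) h
    simp only [coeff_map, RingHom.comp_apply] at this
    simp [RingHom.mem_ker, map_sub, this]

lemma prod_mk {r : ℕ} {f : A[X]} (hf : Deg r f) :
    (∏ i : Fin r, (X - C (Ideal.Quotient.mk (splitIdeal r f) (MvPolynomial.X i)))) =
      f.map (algebraMap A (SplitAlg r f)) := by
  have h := (le_ker_iff hf (Ideal.Quotient.mk (splitIdeal r f))).1 (by rw [Ideal.mk_ker])
  exact h

theorem exists_basis_split (r : ℕ) : ∀ (A : Type u) [CommRing A] [Nontrivial A] (f : A[X]),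
    Deg r f → Nonempty (Module.Basis (Fin r.factorial) A (SplitAlg r f)) := by
  induction r with
  | zero =>
    intro A _ _ f hf
    have hI : splitIdeal 0 f = ⊥ := by simp [splitIdeal]
    let e : SplitAlg 0 f ≃ₐ[A] A :=
      ((Ideal.quotientEquivAlgOfEq A hI).trans (AlgEquiv.quotientBot A _)).trans
        (MvPolynomial.isEmptyAlgEquiv A (Fin 0))
    exact ⟨((Module.Basis.singleton (Fin 1) A).map e.symm.toLinearEquiv).reindex
      (finCongr (by simp))⟩
  | succ r ih =>
    intro A _ _ f hf
    have hmon : f.Monic := monic_of_natDegree_le_of_coeff_eq_one _ hf.le hf.one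
    have hdeg : f.natDegree = r + 1 :=
      le_antisymm hf.le (le_natDegree_of_ne_zero (by rw [hf.one]; exact one_ne_zero))
    let b' : Module.Basis (Fin (r + 1)) A (AdjoinRoot f) :=
      (AdjoinRoot.powerBasis' hmon).basis.reindex (finCongr (by simp [hdeg]))
    have hnt : Nontrivial (AdjoinRoot f) := b'.repr.toEquiv.nontrivial
    let u : AdjoinRoot f := AdjoinRoot.root f
    let F : (AdjoinRoot f)[X] := f.map (algebraMap A (AdjoinRoot f))
    let g : (AdjoinRoot f)[X] := F /ₘ (X - C u)
    have hfg : (X - C u) * g = F := by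
      rw [mul_divByMonic_eq_iff_isRoot]
      change IsRoot (f.map (algebraMap A (AdjoinRoot f))) u
      rw [IsRoot.def, eval_map, ← aeval_def, AdjoinRoot.aeval_eq, AdjoinRoot.mk_self]
    have hFm : F.Monic := hmon.map _
    have hgm : g.Monic := (monic_X_sub_C u).of_mul_monic_left (hfg ▸ hFm)
    have hgd : g.natDegree = r := by
      have h := congrArg natDegree hfg
      rw [(monic_X_sub_C u).natDegree_mul hgm, natDegree_X_sub_C,
        hmon.natDegree_map (algebraMap A (AdjoinRoot f)), hdeg] at h
      omega
    have hgD : Deg r g := ⟨hgd.le, by rw [← hgd]; exact hgm.coeff_natDegree⟩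
    obtain ⟨b''⟩ := ih (AdjoinRoot f) g hgD
    let Q := SplitAlg (r + 1) f
    let S := SplitAlg r g
    let q : MvPolynomial (Fin (r + 1)) A →ₐ[A] Q := Ideal.Quotient.mkₐ A _
    let w : Fin (r + 1) → Q := fun i => q (MvPolynomial.X i)
    have hw : (∏ i, (X - C (w i))) = f.map (algebraMap A Q) := prod_mk hf
    rw [Fin.prod_univ_succ] at hw
    -- ψ : A' → Q
    have hroot : aeval (w 0) f = 0 := by
      rw [aeval_def, ← eval_map, ← hw]
      simp
    let ψ : AdjoinRoot f →ₐ[A] Q := AdjoinRoot.liftAlgHom f (Algebra.ofId A Q) (w 0) hroot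
    have hψu : ψ u = w 0 := AdjoinRoot.liftAlgHom_root _ _ _ _
    have hψg : (∏ i : Fin r, (X - C (w i.succ))) = g.map (ψ : AdjoinRoot f →+* Q) := by
      have h : (X - C (w 0)) * g.map (ψ : AdjoinRoot f →+* Q) = f.map (algebraMap A Q) := by
        have h1 := congrArg (Polynomial.map (ψ : AdjoinRoot f →+* Q)) hfg
        simp only [Polynomial.map_mul, Polynomial.map_sub, map_X, map_C, RingHom.coe_coe, hψu,
          F, Polynomial.map_map, AlgHom.comp_algebraMap] at h1
        exact h1
      rw [← h] at hw
      exact (monic_X_sub_C (w 0)).isRegular.left hw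
    -- backward map
    let θ : MvPolynomial (Fin r) (AdjoinRoot f) →+* Q :=
      MvPolynomial.eval₂Hom (ψ : AdjoinRoot f →+* Q) fun i => w i.succ
    have hθ : splitIdeal r g ≤ RingHom.ker θ := by
      rw [le_ker_iff hgD]
      have hC : θ.comp MvPolynomial.C = (ψ : AdjoinRoot f →+* Q) := by
        ext x <;> simp [θ]
      rw [hC, ← hψg]
      simp [θ]
    let back : S →ₐ[A] Q :=
      { Ideal.Quotient.lift (splitIdeal r g) θ (fun x hx => hθ hx) with
        commutes' := fun a => by
          change θ (MvPolynomial.C (algebraMap A (AdjoinRoot f) a)) = algebraMap A Q a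
          simp only [θ, MvPolynomial.eval₂Hom_C]
          exact ψ.commutes a }
    -- forward map
    let uS : S := algebraMap (AdjoinRoot f) S u
    let v : Fin r → S := fun i => Ideal.Quotient.mk _ (MvPolynomial.X i)
    have hv : (∏ i, (X - C (v i))) = g.map (algebraMap (AdjoinRoot f) S) := prod_mk hgD
    let φ : MvPolynomial (Fin (r + 1)) A →ₐ[A] S := MvPolynomial.aeval (Fin.cons uS v)
    have hφ : splitIdeal (r + 1) f ≤ RingHom.ker (φ : MvPolynomial (Fin (r + 1)) A →+* S) := by
      rw [le_ker_iff hf]
      have hC : (φ : MvPolynomial (Fin (r + 1)) A →+* S).comp MvPolynomial.C =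
          algebraMap A S := by
        ext a; simp [φ]
      rw [hC, Fin.prod_univ_succ]
      simp only [φ, RingHom.coe_coe, MvPolynomial.aeval_X, Fin.cons_zero, Fin.cons_succ, hv]
      rw [IsScalarTower.algebraMap_eq A (AdjoinRoot f) S, ← Polynomial.map_map]
      change _ = F.map (algebraMap (AdjoinRoot f) S)
      rw [← hfg]
      simp [uS]
    let forth : Q →ₐ[A] S := Ideal.Quotient.liftₐ (splitIdeal (r + 1) f) φ (fun x hx => hφ hx)
    have h1 : forth.comp back = AlgHom.id A S := by
      apply AlgHom.coe_ringHom_injective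
      refine Ideal.Quotient.ringHom_ext (MvPolynomial.ringHom_ext (fun a => ?_) (fun i => ?_))
      · have key : forth.comp ψ = IsScalarTower.toAlgHom A (AdjoinRoot f) S := by
          refine AdjoinRoot.algHom_ext ?_
          change forth (ψ u) = uS
          rw [hψu]
          change φ (MvPolynomial.X 0) = uS
          simp [φ]
        have := DFunLike.congr_fun key a
        simp only [AlgHom.comp_apply, IsScalarTower.coe_toAlgHom'] at this
        change forth (θ (MvPolynomial.C a)) = algebraMap (AdjoinRoot f) S a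
        rw [← this]
        simp [θ]
      · change forth (θ (MvPolynomial.X i)) = v i
        simp only [θ, MvPolynomial.eval₂Hom_X']
        change φ (MvPolynomial.X i.succ) = v i
        simp [φ]
    have h2 : back.comp forth = AlgHom.id A Q := by
      refine Ideal.Quotient.algHom_ext A (MvPolynomial.algHom_ext fun i => ?_)
      change back (φ (MvPolynomial.X i)) = w i
      refine Fin.cases ?_ (fun j => ?_) i
      · simp only [φ, MvPolynomial.aeval_X, Fin.cons_zero]
        change θ (MvPolynomial.C u) = w 0
        simp [θ, hψu]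
      · simp only [φ, MvPolynomial.aeval_X, Fin.cons_succ]
        change θ (MvPolynomial.X j) = w j.succ
        simp [θ]
    let e : Q ≃ₐ[A] S := AlgEquiv.ofAlgHom forth back h1 h2
    exact ⟨((b'.smulTower b'').map e.symm.toLinearEquiv).reindex
      (finProdFinEquiv.trans (finCongr (Nat.factorial_succ r).symm))⟩

end Groth.Agent.SymPolyLib
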