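import Groth.Agent.QCAlgHomLib.Basic
import Groth.Agent.RelSpecLib.Gen
import Groth.Prelude.Def_RelSpec2
import Groth.Prelude.Def_RelProj4

/-! The polynomial algebra over a symmetric algebra is the symmetric algebra of the sum with `O`. -/

set_option autoImplicit false
set_option linter.style.haveILetI false
set_option backward.isDefEq.respectTransparency false

universe u

open CategoryTheory CategoryTheory.Limits AlgebraicGeometry TopologicalSpace Opposite

noncomputable section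

namespace Groth.Agent.SymPolyLib

variable {Y : Scheme.{u}}

theorem toModuleMap_app {A B : RelSpec.QCAlg Y} (φ : A ⟶ B) (U : Y.Opens) (x : Γ(A.toModule, U)) :
    (RelSpec.QCAlg.Hom.toModuleMap φ).app U x = (φ.hom.app (op U)).hom x := rfl

theorem biprod_total {E F : Y.Modules} {M : Y.Modules} (g : E ⊞ F ⟶ M) (U : Y.Opens) (x : Γ(E ⊞ F, U)) :
    g.app U x = (biprod.inl ≫ g).app U ((biprod.fst : E ⊞ F ⟶ E).app U x) +
      (biprod.inr ≫ g).app U ((biprod.snd : E ⊞ F ⟶ F).app U x) := by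
  have h : g = biprod.fst ≫ biprod.inl ≫ g + biprod.snd ≫ biprod.inr ≫ g := by
    rw [← Category.assoc, ← Category.assoc, ← Preadditive.add_comp, biprod.total, Category.id_comp]
  conv_lhs => rw [h]
  rfl

theorem smul_one_app {M : Y.Modules} (k : Coh.structureModule Y ⟶ M) (U : Y.Opens) (b : Γ(Y, U)) :
    k.app U b = b • k.app U (1 : Γ(Y, U)) := by
  have h := Scheme.Modules.Hom.app_smul k b (show Γ(Coh.structureModule Y, U) from (1 : Γ(Y, U)))
  refine Eq.trans ?_ h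
  exact congrArg (k.app U) (mul_one b).symm

theorem hom_ext_unit {M : Y.Modules} {k k' : Coh.structureModule Y ⟶ M}
    (h : k.app ⊤ (1 : Γ(Y, ⊤)) = k'.app ⊤ (1 : Γ(Y, ⊤))) : k = k' := by
  refine Scheme.Modules.hom_ext _ _ fun U => AddCommGrpCat.hom_ext (AddMonoidHom.ext fun b => ?_)
  change k.app U (show Γ(Y, U) from b) = k'.app U (show Γ(Y, U) from b)
  rw [smul_one_app k U, smul_one_app k' U]
  congr 1
  have e : ∀ l : Coh.structureModule Y ⟶ M,
      l.app U (1 : Γ(Y, U)) = M.presheaf.map (homOfLE (le_top : U ≤ ⊤)).op (l.app ⊤ (1 : Γ(Y, ⊤))) := fun l => by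
    refine Eq.trans ?_ (ConcreteCategory.congr_hom (l.mapPresheaf.naturality (homOfLE (le_top : U ≤ ⊤)).op)
      (1 : Γ(Y, ⊤)))
    exact congrArg (l.app U) (map_one (Y.presheaf.map (homOfLE (le_top : U ≤ ⊤)).op).hom).symm
  rw [e k, e k', h]

variable {E : Y.Modules} {𝒮 𝒮h : RelProj.QCGrAlg Y} {j : E ⟶ 𝒮.toModule}
  {ι : 𝒮.toQCAlg ⟶ 𝒮h.toQCAlg} {z : 𝒮h.presheaf.obj (op ⊤)} (hz : RelCone.IsPolyOver 𝒮 𝒮h ι z)
  {k : Coh.structureModule Y ⟶ 𝒮h.toModule}
  (hk : ∀ U : Y.Opens, (k.app U) (1 : Γ(Y, U)) = RelCone.restrictTop 𝒮h z U)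

include hk in
theorem k_app (U : Y.Opens) (b : Γ(Y, U)) :
    (show 𝒮h.presheaf.obj (op U) from k.app U b) = (𝒮h.str.app (op U)).hom b * RelCone.restrictTop 𝒮h z U := by
  show k.app U b = _
  rw [smul_one_app, hk]
  rfl

include hz hk in
/-- The degree-one condition. -/
theorem desc_mem_one (hS : RelProj.IsGrSymAlg E 𝒮 j) (U : Y.Opens) (hU : IsAffineOpen U)
    (x : Γ(E ⊞ Coh.structureModule Y, U)) :
    ((biprod.desc (j ≫ RelSpec.QCAlg.Hom.toModuleMap ι) k).app U) x ∈ 𝒮h.deg U hU 1 := by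
  rw [biprod_total, biprod.inl_desc, biprod.inr_desc]
  refine add_mem (hz.graded U hU 1 _ (hS.2 U hU _)) ?_
  rw [show k.app U _ = (show 𝒮h.presheaf.obj (op U) from k.app U _) from rfl, k_app hk U]
  simpa using SetLike.mul_mem_graded (𝒮h.str_mem U hU _) (hz.deg_z U hU)

include hz hk in
theorem existsUnique_hom (hS : RelSpec.IsSymAlg E 𝒮.toQCAlg j) (B : RelSpec.QCAlg Y)
    (φ : E ⊞ Coh.structureModule Y ⟶ B.toModule) :
    ∃! ψ : 𝒮h.toQCAlg ⟶ B,
      biprod.desc (j ≫ RelSpec.QCAlg.Hom.toModuleMap ι) k ≫ RelSpec.QCAlg.Hom.toModuleMap ψ = φ := by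
  obtain ⟨ψ₀, hψ₀, huniq⟩ := hS B (biprod.inl ≫ φ)
  let w : B.presheaf.obj (op ⊤) := (biprod.inr ≫ φ).app ⊤ (1 : Γ(Y, ⊤))
  let wU : ∀ U : Y.Opens, B.presheaf.obj (op U) := fun U => (B.presheaf.map (homOfLE le_top).op).hom w
  let h : ∀ W : Y.affineOpens, 𝒮h.presheaf.obj (op W.1) ⟶ B.presheaf.obj (op W.1) := fun W =>
    CommRingCat.ofHom ((Polynomial.eval₂RingHom (ψ₀.hom.app (op W.1)).hom (wU W.1)).comp
      (hz.polyEquiv W.1 W.2).symm.toRingHom)
  have hι : ∀ (W : Y.affineOpens) (a : 𝒮.presheaf.obj (op W.1)),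
      (h W).hom ((ι.hom.app (op W.1)).hom a) = (ψ₀.hom.app (op W.1)).hom a := fun W a => by
    have e : hz.polyEquiv W.1 W.2 (Polynomial.C a) = (ι.hom.app (op W.1)).hom a := by
      rw [hz.polyEquiv_apply, Polynomial.eval₂_C]
    show Polynomial.eval₂ _ _ ((hz.polyEquiv W.1 W.2).symm _) = _
    rw [← e, RingEquiv.symm_apply_apply, Polynomial.eval₂_C]
  have hzW : ∀ W : Y.affineOpens, (h W).hom (RelCone.restrictTop 𝒮h z W.1) = wU W.1 := fun W => by
    have e : hz.polyEquiv W.1 W.2 Polynomial.X = RelCone.restrictTop 𝒮h z W.1 := by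
      rw [hz.polyEquiv_apply, Polynomial.eval₂_X]
    show Polynomial.eval₂ _ _ ((hz.polyEquiv W.1 W.2).symm _) = _
    rw [← e, RingEquiv.symm_apply_apply, Polynomial.eval₂_X]
  have ext' : ∀ (W : Y.affineOpens) {R : Type u} [CommRing R] (g g' : 𝒮h.presheaf.obj (op W.1) →+* R),
      (∀ a, g ((ι.hom.app (op W.1)).hom a) = g' ((ι.hom.app (op W.1)).hom a)) →
        g (RelCone.restrictTop 𝒮h z W.1) = g' (RelCone.restrictTop 𝒮h z W.1) → g = g' := by
    intro W R _ g g' h1 h2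
    refine RingHom.ext fun x => ?_
    obtain ⟨q, rfl⟩ := (hz.polyEquiv W.1 W.2).surjective x
    refine RingHom.congr_fun (f := g.comp (hz.polyEquiv W.1 W.2).toRingHom)
      (g := g'.comp (hz.polyEquiv W.1 W.2).toRingHom) (Polynomial.ringHom_ext (fun a => ?_) ?_) q
    · simpa [RelCone.IsPolyOver.polyEquiv_apply] using h1 a
    · simpa [RelCone.IsPolyOver.polyEquiv_apply] using h2
  obtain ⟨ψ, hψ⟩ := QCAlgHomLib.exists_hom_of_affine (A := 𝒮h.toQCAlg) (B := B) h (fun V W hVW => by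
      refine CommRingCat.hom_ext (ext' W _ _ (fun a => ?_) ?_)
      · show (h V).hom ((𝒮h.presheaf.map (homOfLE hVW).op).hom ((ι.hom.app (op W.1)).hom a)) =
          (B.presheaf.map (homOfLE hVW).op).hom ((h W).hom ((ι.hom.app (op W.1)).hom a))
        rw [hι W, show (𝒮h.presheaf.map (homOfLE hVW).op).hom ((ι.hom.app (op W.1)).hom a) =
          (ι.hom.app (op V.1)).hom ((𝒮.presheaf.map (homOfLE hVW).op).hom a) from
          (ConcreteCategory.congr_hom (ι.hom.naturality (homOfLE hVW).op) a).symm, hι V]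
        exact ConcreteCategory.congr_hom (ψ₀.hom.naturality (homOfLE hVW).op) a
      · show (h V).hom ((𝒮h.presheaf.map (homOfLE hVW).op).hom (RelCone.restrictTop 𝒮h z W.1)) =
          (B.presheaf.map (homOfLE hVW).op).hom ((h W).hom (RelCone.restrictTop 𝒮h z W.1))
        rw [hzW W, RelCone.restrictTop, RelSpecLib.res_res, ← RelCone.restrictTop, hzW V]
        exact (RelSpecLib.res_res B le_top hVW w).symm) (fun W => by
      refine CommRingCat.hom_ext (RingHom.ext fun r => ?_)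
      show (h W).hom ((𝒮h.str.app (op W.1)).hom r) = (B.str.app (op W.1)).hom r
      rw [show (𝒮h.str.app (op W.1)).hom r = (ι.hom.app (op W.1)).hom ((𝒮.str.app (op W.1)).hom r) from
        (ConcreteCategory.congr_hom (congrArg (fun φ => φ.app (op W.1)) ι.comm) r).symm, hι W]
      exact ConcreteCategory.congr_hom (congrArg (fun φ => φ.app (op W.1)) ψ₀.comm) r)
  have hinl : ι ≫ ψ = ψ₀ := QCAlgHomLib.hom_ext_affine fun W => by
    refine CommRingCat.hom_ext (RingHom.ext fun a => ?_)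
    rw [RelSpec.QCAlg.comp_hom, NatTrans.comp_app, hψ]
    exact hι W a
  have hz_eq : (ψ.hom.app (op ⊤)).hom z = w := by
    refine TopCat.Sheaf.eq_of_locally_eq' (⟨B.presheaf, B.isSheaf⟩ : TopCat.Sheaf CommRingCat.{u} Y)
      (fun W : Y.affineOpens => W.1) ⊤ (fun W => homOfLE le_top) (fun x _ => ?_) _ _ fun W => ?_
    · obtain ⟨_, ⟨U, hU, rfl⟩, hxU, -⟩ :=
        Y.isBasis_affineOpens.exists_subset_of_mem_open (Set.mem_univ x) isOpen_univ
      exact Opens.mem_iSup.2 ⟨⟨U, hU⟩, hxU⟩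
    · exact ((ConcreteCategory.congr_hom (ψ.hom.naturality (homOfLE (le_top : W.1 ≤ ⊤)).op) z).symm).trans
        ((congrArg (fun f => f.hom (RelCone.restrictTop 𝒮h z W.1)) (hψ W)).trans (hzW W))
  refine ⟨ψ, ?_, fun ψ' hψ' => ?_⟩
  · refine biprod.hom_ext' _ _ ?_ ?_
    · rw [biprod.inl_desc_assoc, Category.assoc, ← RelSpecLib.toModuleMap_comp, hinl]
      exact hψ₀
    · rw [biprod.inr_desc_assoc]
      refine hom_ext_unit ?_
      show (RelSpec.QCAlg.Hom.toModuleMap ψ).app ⊤ (k.app ⊤ (1 : Γ(Y, ⊤))) = _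
      rw [hk, toModuleMap_app, show RelCone.restrictTop 𝒮h z ⊤ = z from by
        rw [RelCone.restrictTop, show (homOfLE (le_top : (⊤ : Y.Opens) ≤ ⊤)).op = 𝟙 (op ⊤) from Subsingleton.elim _ _,
          CategoryTheory.Functor.map_id]
        rfl]
      exact hz_eq
  · have hinl' : ι ≫ ψ' = ψ₀ := huniq _ (by
      show _ = _
      rw [RelSpecLib.toModuleMap_comp, ← hψ', biprod.inl_desc_assoc, Category.assoc])
    have hz' : ∀ U : Y.Opens, (ψ'.hom.app (op U)).hom (RelCone.restrictTop 𝒮h z U) = wU U := fun U => by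
      have e : (ψ'.hom.app (op ⊤)).hom z = w := by
        show _ = (biprod.inr ≫ φ).app ⊤ (1 : Γ(Y, ⊤))
        rw [← hψ', biprod.inr_desc_assoc]
        show _ = (RelSpec.QCAlg.Hom.toModuleMap ψ').app ⊤ (k.app ⊤ (1 : Γ(Y, ⊤)))
        rw [hk, toModuleMap_app, show RelCone.restrictTop 𝒮h z ⊤ = z from by
          rw [RelCone.restrictTop, show (homOfLE (le_top : (⊤ : Y.Opens) ≤ ⊤)).op = 𝟙 (op ⊤) from Subsingleton.elim _ _,
            CategoryTheory.Functor.map_id]
          rfl]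
      exact (ConcreteCategory.congr_hom (ψ'.hom.naturality (homOfLE (le_top : U ≤ ⊤)).op) z).trans
        (congrArg _ e)
    refine QCAlgHomLib.hom_ext_affine fun W => CommRingCat.hom_ext (ext' W _ _ (fun a => ?_) ?_)
    · rw [hψ W, hι W, ← hinl']
      rfl
    · rw [hψ W, hzW W]
      exact hz' W.1

end Groth.Agent.SymPolyLib
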